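import Groth.Agent.MatTree.Trees
import Mathlib.LinearAlgebra.Matrix.NonsingularInverse
import Mathlib.LinearAlgebra.Matrix.ToLinearEquiv
import Mathlib.Algebra.BigOperators.Ring.Finset

/-!
# The weighted matrix-tree theorem for multigraphs
-/

namespace Groth.Agent.MatTree

open Finset LabGraph

set_option linter.unusedSectionVars false

universe u

variable {V E : Type u} [Fintype V] [Fintype E] [DecidableEq V] [DecidableEq E]
  {ends : E → V × V}

/-- Signed incidence: head minus tail. -/
def inc (ends : E → V × V) (e : E) (v : V) : ℤ :=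
  (if (ends e).2 = v then 1 else 0) - (if (ends e).1 = v then 1 else 0)

theorem sum_inc (e : E) (X : V → ℤ) : ∑ v, inc ends e v * X v = X (ends e).2 - X (ends e).1 := by
  simp [inc, sub_mul, sum_sub_distrib]

theorem sum_ne (v0 : V) {M : Type*} [AddCommGroup M] (F : V → M) :
    ∑ j : {v : V // v ≠ v0}, F j.1 = ∑ v, F v - F v0 := by
  rw [← Finset.sum_subtype (univ.erase v0) (by simp) F, Finset.sum_erase_eq_sub (mem_univ v0)]

theorem inc_mod_two (e : E) (v : V) : (inc ends e v : ZMod 2) = (endCount ends {e} v : ZMod 2) := by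
  have h : (-1 : ZMod 2) = 1 := by decide
  rw [endCount_singleton, inc]
  split_ifs <;> simp [h] <;> decide

theorem exists_chain {S : Finset E} {a b : V} (h : Reach ends S a b) :
    ∃ c : E → ℤ, (∀ e ∉ S, c e = 0) ∧
      ∀ v, ∑ e, c e * inc ends e v = (if b = v then 1 else 0) - (if a = v then 1 else 0) := by
  induction h with
  | refl => exact ⟨0, fun _ _ => rfl, fun v => by simp⟩
  | @tail x y _ hs ih =>
    obtain ⟨c, hc, hc'⟩ := ih
    obtain ⟨e, he, he'⟩ := hs
    have hupd : ∀ (s : ℤ) v, ∑ d, (c + (Pi.single e s : E → ℤ)) d * inc ends d v =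
        (∑ d, c d * inc ends d v) + s * inc ends e v := fun s v => by
      simp [add_mul, sum_add_distrib, Pi.single_apply, ite_mul]
    rcases he' with he' | he'
    · refine ⟨c + Pi.single e 1, fun d hd => ?_, fun v => ?_⟩
      · simp [hc d hd, Pi.single_eq_of_ne (fun h : d = e => hd (h ▸ he))]
      · rw [hupd, hc', inc, he']; ring
    · refine ⟨c + Pi.single e (-1), fun d hd => ?_, fun v => ?_⟩
      · simp [hc d hd, Pi.single_eq_of_ne (fun h : d = e => hd (h ▸ he))]
      · rw [hupd, hc', inc, he']; ring

variable (v0 : V)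

/-- The square piece of the reduced incidence matrix chosen by `g`. -/
def incMat (ends : E → V × V) (g : {v : V // v ≠ v0} → E) :
    Matrix {v : V // v ≠ v0} {v : V // v ≠ v0} ℤ := Matrix.of fun i j => inc ends (g i) j.1

theorem isUnit_det {g : {v : V // v ≠ v0} → E} (hg : Function.Injective g)
    (hS : Spans ends (univ.image g)) : IsUnit (incMat v0 ends g).det := by
  classical
  choose c hc hc' using fun i : {v : V // v ≠ v0} => exists_chain (hS v0 i.1)
  refine Matrix.isUnit_det_of_left_inverse (B := Matrix.of fun i k => c i (g k)) ?_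
  ext i j
  rw [Matrix.mul_apply, Matrix.one_apply]
  simp only [incMat, Matrix.of_apply]
  rw [← Finset.sum_image (f := fun e => c i e * inc ends e j.1) hg.injOn,
    Finset.sum_subset (subset_univ _) (fun e _ he => by rw [hc i e he, zero_mul]), hc',
    if_neg j.2.symm, sub_zero]
  exact if_congr Subtype.ext_iff.symm rfl rfl

theorem tree_of_det_ne_zero {g : {v : V // v ≠ v0} → E} (hd : (incMat v0 ends g).det ≠ 0) :
    Function.Injective g ∧ IsSpanningTree ends (univ.image g) := by
  classical
  have hg : Function.Injective g := fun i j hij => by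
    by_contra h
    exact hd (Matrix.det_zero_of_row_eq h (by funext k; simp [incMat, hij]))
  have hspan : Spans ends (univ.image g) := by
    by_contra hns
    have : ∃ b, ¬ Reach ends (univ.image g) v0 b := by
      by_contra h
      push Not at h
      exact hns fun a b => (reach_symm (h a)).trans (h b)
    obtain ⟨b, hb⟩ := this
    let X : V → ℤ := fun v => if Reach ends (univ.image g) v0 v then 0 else 1
    have hbne : b ≠ v0 := by intro h; exact hb (h.symm ▸ Relation.ReflTransGen.refl)
    refine hd (Matrix.exists_mulVec_eq_zero_iff.1 ⟨fun j => X j.1, ?_, ?_⟩)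
    · intro h
      have := congrFun h ⟨b, hbne⟩
      simp [X, hb] at this
    · funext i
      show ∑ j : {v : V // v ≠ v0}, inc ends (g i) j.1 * X j.1 = 0
      rw [sum_ne v0 (fun v => inc ends (g i) v * X v), sum_inc]
      have h0 : X v0 = 0 := if_pos Relation.ReflTransGen.refl
      rw [h0, mul_zero, sub_zero, sub_eq_zero]
      have he : g i ∈ univ.image g := mem_image_of_mem g (mem_univ i)
      simp only [X]
      exact if_congr ⟨fun h => h.tail (adjS_symm (adjS_ends he)), fun h => h.tail (adjS_ends he)⟩ rfl rfl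
  refine ⟨hg, isSpanningTree_iff.2 ⟨⟨v0⟩, hspan, fun C hC hcirc => ?_⟩⟩
  have hu : IsUnit ((incMat v0 ends g).map (Int.castRingHom (ZMod 2))).det := by
    rw [← RingHom.mapMatrix_apply, ← RingHom.map_det]
    exact (isUnit_det v0 hg hspan).map _
  let x : {v : V // v ≠ v0} → ZMod 2 := fun i => if g i ∈ C then 1 else 0
  have hx : Matrix.vecMul x ((incMat v0 ends g).map (Int.castRingHom (ZMod 2))) = 0 := by
    funext j
    show ∑ i, x i * ((inc ends (g i) j.1 : ℤ) : ZMod 2) = 0
    simp only [x, ite_mul, one_mul, zero_mul, inc_mod_two]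
    rw [← Finset.sum_image (f := fun e => if e ∈ C then (endCount ends {e} j.1 : ZMod 2) else 0) hg.injOn,
      ← Finset.sum_filter, Finset.filter_mem_eq_inter, Finset.inter_eq_right.2 hC, ← Nat.cast_sum,
      ← endCount_eq_sum, ZMod.natCast_eq_zero_iff_even]
    exact hcirc.2.1 _
  obtain ⟨e, he⟩ := hcirc.1
  obtain ⟨i, -, rfl⟩ := mem_image.1 (hC he)
  have hx0 : x = 0 := by
    have h2 := congrArg (fun y => Matrix.vecMul y ((incMat v0 ends g).map (Int.castRingHom (ZMod 2)))⁻¹) hx
    simp only [Matrix.vecMul_vecMul, Matrix.mul_nonsing_inv _ hu, Matrix.vecMul_one,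
      Matrix.zero_vecMul] at h2
    exact h2
  have h3 := congrFun hx0 i
  simp only [x, if_pos he, Pi.zero_apply] at h3
  exact one_ne_zero h3

theorem card_tree {T : Finset E} (hT : IsSpanningTree ends T) :
    Fintype.card {v : V // v ≠ v0} = Fintype.card T := by
  classical
  obtain ⟨-, hspan, hno⟩ := isSpanningTree_iff.1 hT
  let Φ : (T → ZMod 2) →ₗ[ZMod 2] ({v : V // v ≠ v0} → ZMod 2) :=
    Fintype.linearCombination (ZMod 2) fun (e : T) (j : {v : V // v ≠ v0}) => (endCount ends {e.1} j.1 : ZMod 2)
  have hΦ : ∀ (x : T → ZMod 2) j, Φ x j = ∑ e : T, x e * (endCount ends {e.1} j.1 : ZMod 2) := fun x j => by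
    simp [Φ, Fintype.linearCombination_apply]
  have hsurj : Function.Surjective Φ := by
    rw [← LinearMap.range_eq_top, eq_top_iff, ← (Pi.basisFun (ZMod 2) {v : V // v ≠ v0}).span_eq,
      Submodule.span_le]
    rintro _ ⟨v, rfl⟩
    obtain ⟨P, hP, hP'⟩ := exists_parity (hspan v0 v.1)
    refine ⟨fun e => if e.1 ∈ P then 1 else 0, funext fun j => ?_⟩
    rw [hΦ]
    simp only [ite_mul, one_mul, zero_mul]
    rw [Finset.sum_coe_sort T (fun e => if e ∈ P then (endCount ends {e} j.1 : ZMod 2) else 0),
      ← Finset.sum_filter, Finset.filter_mem_eq_inter, Finset.inter_eq_right.2 hP, ← Nat.cast_sum,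
      ← endCount_eq_sum, hP', if_neg j.2.symm, zero_add]
    simp [Pi.single_apply, Subtype.ext_iff, eq_comm]
  have hinj : Function.Injective Φ := by
    rw [injective_iff_map_eq_zero]
    intro x hx
    by_contra hne
    let C : Finset E := (univ.filter fun e : T => x e = 1).map (Function.Embedding.subtype _)
    have h01 : ∀ e, x e = 0 ∨ x e = 1 := fun e => by generalize x e = y; revert y; decide
    have hCT : C ⊆ T := fun e he => by
      obtain ⟨y, -, rfl⟩ := mem_map.1 he; exact y.2
    have hev' : ∀ v, v ≠ v0 → (endCount ends C v : ZMod 2) = 0 := fun v hv => by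
      have := congrFun hx ⟨v, hv⟩
      rw [hΦ] at this
      rw [endCount_eq_sum, Nat.cast_sum, sum_map, sum_filter]
      refine Eq.trans (sum_congr rfl fun e _ => ?_) this
      rcases h01 e with h | h <;> simp [h]
    have hev : ∀ v, Even (endCount ends C v) := fun v => by
      rw [← ZMod.natCast_eq_zero_iff_even]
      by_cases hv : v = v0
      · subst hv
        have htot : ∑ w, (endCount ends C w : ZMod 2) = 0 := by
          rw [← Nat.cast_sum, ZMod.natCast_eq_zero_iff_even]
          simp only [endCount_eq_sum C]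
          rw [Finset.sum_comm]
          exact Finset.even_sum _ fun e _ => ⟨1, by rw [sum_endCount]; simp⟩
        rwa [← Finset.add_sum_erase _ _ (mem_univ v), sum_eq_zero (fun w hw => hev' w (ne_of_mem_erase hw)),
          add_zero] at htot
      · exact hev' v hv
    have hCne : C.Nonempty := by
      obtain ⟨e, he⟩ := Function.ne_iff.1 hne
      exact ⟨e.1, mem_map.2 ⟨e, mem_filter.2 ⟨mem_univ _, (h01 e).resolve_left he⟩, rfl⟩⟩
    obtain ⟨C', hC', hC''⟩ := exists_circuit hCne hev
    exact hno C' (hC'.trans hCT) hC''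
  have := Fintype.card_of_bijective ⟨hinj, hsurj⟩
  simp only [Fintype.card_fun, ZMod.card] at this
  exact (Nat.pow_right_injective le_rfl this).symm

/-- The reduced weighted Laplacian. -/
def lap (ends : E → V × V) (w : E → ℤ) : Matrix {v : V // v ≠ v0} {v : V // v ≠ v0} ℤ :=
  Matrix.of fun i j => ∑ e, w e * (inc ends e i.1 * inc ends e j.1)

open Classical in
/-- Matrix-tree theorem. -/
theorem det_lap (w : E → ℤ) :
    (lap v0 ends w).det =
      ∑ T ∈ univ.powerset.filter (fun T : Finset E => IsSpanningTree ends T), ∏ e ∈ T, w e := by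
  let K := fun g : {v : V // v ≠ v0} → E => (∏ i, w (g i) * inc ends (g i) i.1) * (incMat v0 ends g).det
  have h1 : (lap v0 ends w).det = ∑ g, K g := by
    rw [Matrix.det_apply']
    simp only [lap, Matrix.of_apply, prod_univ_sum, Fintype.piFinset_univ, mul_sum]
    rw [Finset.sum_comm]
    refine sum_congr rfl fun g _ => ?_
    simp only [K]
    rw [← Matrix.det_transpose, Matrix.det_apply', mul_sum]
    refine sum_congr rfl fun σ _ => ?_
    simp only [incMat, Matrix.transpose_apply, Matrix.of_apply, prod_mul_distrib]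
    ring
  rw [h1, ← Finset.sum_fiberwise_of_maps_to (g := fun g : {v : V // v ≠ v0} → E => univ.image g)
    (t := univ.powerset) (fun g _ => mem_powerset.2 (subset_univ _)) K, Finset.sum_filter]
  refine sum_congr rfl fun T _ => ?_
  by_cases hT : IsSpanningTree ends T
  · rw [if_pos hT]
    let g0e : {v : V // v ≠ v0} ≃ T := Fintype.equivOfCardEq (card_tree v0 hT)
    let g0 : {v : V // v ≠ v0} → E := fun i => (g0e i).1
    have hg0 : Function.Injective g0 := Subtype.val_injective.comp g0e.injective
    have himg : univ.image g0 = T := by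
      ext e; simp only [mem_image, mem_univ, true_and, g0]
      exact ⟨fun ⟨i, hi⟩ => hi ▸ (g0e i).2, fun he => ⟨g0e.symm ⟨e, he⟩, by simp⟩⟩
    have hu := isUnit_det v0 hg0 (himg ▸ (isSpanningTree_iff.1 hT).2.1)
    have step : ∑ σ : Equiv.Perm {v : V // v ≠ v0}, K (g0 ∘ σ) =
        (∏ e ∈ T, w e) * ((incMat v0 ends g0).det * (incMat v0 ends g0).det) := by
      rw [Matrix.det_apply', sum_mul, mul_sum]
      refine sum_congr rfl fun σ => ?_
      intro _
      simp only [K, prod_mul_distrib]
      have e1 : ∏ i, w ((g0 ∘ σ) i) = ∏ e ∈ T, w e := by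
        rw [← himg, prod_image hg0.injOn]; exact Equiv.prod_comp σ (fun i => w (g0 i))
      have e2 : incMat v0 ends (g0 ∘ σ) = (incMat v0 ends g0).submatrix σ id := rfl
      rw [e1, e2, Matrix.det_permute, Matrix.det_apply' (incMat v0 ends g0)]
      simp only [incMat, Matrix.of_apply, Function.comp_apply, Int.cast_id]
      ring
    have hsq : (incMat v0 ends g0).det * (incMat v0 ends g0).det = 1 := by
      rcases Int.isUnit_iff.1 hu with h | h <;> simp [h]
    rw [hsq, mul_one] at step
    rw [← step]
    refine (Finset.sum_bij_ne_zero (fun (σ : Equiv.Perm {v : V // v ≠ v0}) _ _ => g0 ∘ ⇑σ) (fun σ _ _ => ?_) (fun σ _ _ τ _ _ h => ?_)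
      (fun g hg hne => ?_) (fun σ _ _ => rfl)).symm
    · simp only [mem_filter, mem_univ, true_and]
      rw [← himg, ← Finset.image_image, Finset.image_univ_of_surjective σ.surjective]
    · exact Equiv.coe_fn_injective (hg0.comp_left h)
    · obtain ⟨hinj, -⟩ := tree_of_det_ne_zero v0 (ends := ends) (g := g) (fun h => hne (by simp [K, h]))
      have hmem : ∀ i, g i ∈ T := fun i => (mem_filter.1 hg).2 ▸ mem_image_of_mem g (mem_univ i)
      let σ : Equiv.Perm {v : V // v ≠ v0} := Equiv.ofBijective (fun i => g0e.symm ⟨g i, hmem i⟩)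
        (Finite.injective_iff_bijective.1 fun i j h => hinj (congrArg Subtype.val (g0e.symm.injective h)))
      have hσ : g0 ∘ ⇑σ = g := funext fun i => by simp [σ, g0]
      exact ⟨σ, mem_univ _, by rw [hσ]; exact hne, hσ⟩
  · rw [if_neg hT]
    refine Finset.sum_eq_zero fun g hg => ?_
    by_contra hne
    obtain ⟨-, h⟩ := tree_of_det_ne_zero v0 (ends := ends) (g := g) (fun h => hne (by simp [K, h]))
    exact hT ((mem_filter.1 hg).2 ▸ h)

end Groth.Agent.MatTree
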