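import Mathlib.LinearAlgebra.FreeModule.Finite.CardQuotient
import Mathlib.LinearAlgebra.Matrix.NonsingularInverse
import Mathlib.LinearAlgebra.Matrix.ToLinearEquiv
import Mathlib.Data.ZMod.QuotientGroup
import Mathlib.Data.Int.GCD
import Mathlib.Tactic.LinearCombination

/-!
# Order of `b^⊥ / im A` for a symmetric integer matrix with kernel vector `b`
-/

namespace Groth.Agent.MatTree

open Finset Matrix

universe u

variable {V : Type u} [Fintype V] [DecidableEq V]

theorem sum_ne' (v0 : V) (F : V → ℤ) :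
    ∑ j : {v : V // v ≠ v0}, F j.1 = ∑ v, F v - F v0 := by
  rw [← Finset.sum_subtype (univ.erase v0) (by simp) F, Finset.sum_erase_eq_sub (mem_univ v0)]

theorem index_image (A : Matrix V V ℤ) (b : V → ℤ) (v0 : V) (hA : A.IsSymm) (hAb : A *ᵥ b = 0)
    (hb0 : 0 < b v0) (c : V → ℤ) (hc : ∑ v, c v * b v = 1)
    (hdet : (A.submatrix (Subtype.val : {v // v ≠ v0} → V) (Subtype.val : {v // v ≠ v0} → V)).det ≠ 0)
    (K : AddSubgroup (V → ℤ)) (hK : ∀ z, z ∈ K ↔ ∑ v, z v * b v = 0) :
    ((A.mulVecLin.toAddMonoidHom.range).addSubgroupOf K).index * (b v0).natAbs ^ 2 =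
      (A.submatrix (Subtype.val : {v // v ≠ v0} → V) (Subtype.val : {v // v ≠ v0} → V)).det.natAbs := by
  set M := A.submatrix (Subtype.val : {v // v ≠ v0} → V) (Subtype.val : {v // v ≠ v0} → V) with hM
  set k := (b v0).natAbs with hk
  have hkz : (k : ℤ) = b v0 := by omega
  have horth : ∀ z, ∑ v, (A *ᵥ z) v * b v = 0 := fun z => by
    show (A *ᵥ z) ⬝ᵥ b = 0
    rw [dotProduct_comm, dotProduct_mulVec, ← mulVec_transpose, hA.eq, hAb, zero_dotProduct]
  let π : (V → ℤ) →+ ({v // v ≠ v0} → ℤ) :=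
    { toFun := fun z j => z j.1, map_zero' := rfl, map_add' := fun _ _ => rfl }
  have hπ0 : ∀ z ∈ K, π z = 0 → z = 0 := fun z hz h => by
    funext v
    by_cases hv : v = v0
    · subst hv
      have h1 := (hK z).1 hz
      rw [Finset.sum_eq_single v (fun w _ hw => by rw [show z w = 0 from congrFun h ⟨w, hw⟩, zero_mul])
        (by simp)] at h1
      exact (mul_eq_zero.1 h1).resolve_right hb0.ne'
    · exact congrFun h ⟨v, hv⟩
  let πK : K →+ ({v // v ≠ v0} → ℤ) := π.comp K.subtype
  have hinj : Function.Injective πK :=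
    (injective_iff_map_eq_zero πK).2 fun x hx => Subtype.ext (hπ0 x.1 x.2 hx)
  -- the image of `K` has index `k`
  let χ : ({v // v ≠ v0} → ℤ) →+ ZMod k :=
    { toFun := fun y => ((∑ j, y j * b j.1 : ℤ) : ZMod k)
      map_zero' := by simp
      map_add' := fun y y' => by simp [add_mul, sum_add_distrib] }
  have hrange : πK.range = χ.ker := by
    ext y
    rw [AddMonoidHom.mem_range, AddMonoidHom.mem_ker]
    show _ ↔ ((∑ j, y j * b j.1 : ℤ) : ZMod k) = 0
    rw [ZMod.intCast_zmod_eq_zero_iff_dvd, hkz]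
    constructor
    · rintro ⟨x, rfl⟩
      show b v0 ∣ ∑ j : {v // v ≠ v0}, x.1 j.1 * b j.1
      rw [sum_ne' v0 (fun v => x.1 v * b v), (hK _).1 x.2, zero_sub]
      exact (Dvd.intro_left _ rfl).neg_right
    · rintro ⟨t, ht⟩
      let z : V → ℤ := fun v => if h : v = v0 then -t else y ⟨v, h⟩
      have hy : ∀ j : {v // v ≠ v0}, z j.1 = y j := fun j => dif_neg j.2
      refine ⟨⟨z, (hK z).2 ?_⟩, funext hy⟩
      have := sum_ne' v0 (fun v => z v * b v)
      simp only [hy] at this
      rw [ht, show z v0 = -t from dif_pos rfl] at this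
      linarith
  have hsurj : Function.Surjective χ := fun x => by
    obtain ⟨x, rfl⟩ := ZMod.intCast_surjective x
    refine ⟨fun j => x * c j.1, ?_⟩
    show ((∑ j : {v // v ≠ v0}, x * c j.1 * b j.1 : ℤ) : ZMod k) = x
    rw [sum_ne' v0 (fun v => x * c v * b v), ← sub_eq_zero, ← Int.cast_sub,
      ZMod.intCast_zmod_eq_zero_iff_dvd, hkz]
    simp only [mul_assoc, ← mul_sum, hc]
    exact ⟨-(x * c v0), by ring⟩
  have hidx1 : πK.range.index = k := by
    rw [hrange, AddSubgroup.index_ker, AddMonoidHom.range_eq_top.2 hsurj]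
    simp [Nat.card_zmod]
  -- the image of `A`
  let Aπ : (V → ℤ) →+ ({v // v ≠ v0} → ℤ) := π.comp A.mulVecLin.toAddMonoidHom
  have hmap : (A.mulVecLin.toAddMonoidHom.range.addSubgroupOf K).map πK = Aπ.range := by
    ext y
    simp only [AddSubgroup.mem_map, AddSubgroup.mem_addSubgroupOf, AddMonoidHom.mem_range]
    constructor
    · rintro ⟨x, ⟨z, hz⟩, rfl⟩
      exact ⟨z, congrArg π hz⟩
    · rintro ⟨z, rfl⟩
      exact ⟨⟨A *ᵥ z, (hK _).2 (horth z)⟩, ⟨z, rfl⟩, rfl⟩
  have hidx2 : Aπ.range.index = (A.mulVecLin.toAddMonoidHom.range.addSubgroupOf K).index * k := by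
    rw [← hmap, AddSubgroup.index_map_of_injective _ hinj, hidx1]
  -- the coordinate hyperplane
  let ev : (V → ℤ) →+ ZMod k := (Int.castAddHom (ZMod k)).comp (Pi.evalAddMonoidHom (fun _ => ℤ) v0)
  let Z : AddSubgroup (V → ℤ) := (Pi.evalAddMonoidHom (fun _ : V => ℤ) v0).ker
  have hext : ∀ z : V → ℤ, z v0 = 0 → (fun j : {v // v ≠ v0} => (A *ᵥ z) j.1) = M *ᵥ (fun j => z j.1) :=
    fun z hz => by
      funext i
      show ∑ v, A i.1 v * z v = ∑ j : {v // v ≠ v0}, A i.1 j.1 * z j.1
      rw [sum_ne' v0 (fun v => A i.1 v * z v), hz, mul_zero, sub_zero]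
  have hker : ∀ z, Aπ z = 0 → ∃ t : ℤ, z = t • b := fun z hz => by
    have hAz : A *ᵥ z = 0 := hπ0 _ ((hK _).2 (horth z)) hz
    let w : V → ℤ := b v0 • z - z v0 • b
    have hw0 : w v0 = 0 := by simp [w, mul_comm]
    have hMw : M *ᵥ (fun j => w j.1) = 0 := by
      rw [← hext w hw0]
      funext j
      show (A *ᵥ (b v0 • z - z v0 • b)) j.1 = 0
      rw [mulVec_sub, mulVec_smul, mulVec_smul, hAz, hAb]
      simp
    have hw : ∀ v, b v0 * z v = z v0 * b v := fun v => by
      by_cases hv : v = v0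
      · subst hv; ring
      · have h1 : (fun j : {v // v ≠ v0} => w j.1) = 0 := by
          by_contra h
          exact hdet (Matrix.exists_mulVec_eq_zero_iff.1 ⟨_, h, hMw⟩)
        have := congrFun h1 ⟨v, hv⟩
        simpa [w, sub_eq_zero] using this
    refine ⟨∑ v, c v * z v, funext fun v => mul_left_cancel₀ hb0.ne' ?_⟩
    have : b v0 * ∑ u, c u * z u = z v0 := by
      rw [mul_sum, show z v0 = z v0 * ∑ u, c u * b u by rw [hc, mul_one], mul_sum]
      exact sum_congr rfl fun u _ => by linear_combination c u * hw u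
    rw [Pi.smul_apply, smul_eq_mul, ← mul_assoc, this, hw]
  have hsup : Z ⊔ Aπ.ker = ev.ker := by
    apply le_antisymm
    · refine sup_le (fun z hz => ?_) (fun z hz => ?_)
      · rw [AddMonoidHom.mem_ker] at hz ⊢
        show ((z v0 : ℤ) : ZMod k) = 0
        rw [show z v0 = 0 from hz, Int.cast_zero]
      · obtain ⟨t, rfl⟩ := hker z hz
        rw [AddMonoidHom.mem_ker]
        show (((t • b) v0 : ℤ) : ZMod k) = 0
        rw [ZMod.intCast_zmod_eq_zero_iff_dvd, hkz]
        exact ⟨t, by simp [mul_comm]⟩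
    · intro z hz
      rw [AddMonoidHom.mem_ker] at hz
      have hz' : ((z v0 : ℤ) : ZMod k) = 0 := hz
      rw [ZMod.intCast_zmod_eq_zero_iff_dvd, hkz] at hz'
      obtain ⟨t, ht⟩ := hz'
      rw [← sub_add_cancel z (t • b)]
      refine AddSubgroup.add_mem_sup ?_ ?_
      · show (z - t • b) v0 = 0
        simp [ht, mul_comm]
      · rw [AddMonoidHom.mem_ker]
        funext j
        show (A *ᵥ (t • b)) j.1 = 0
        rw [mulVec_smul, hAb]
        simp
  have hidx3 : ev.ker.index = k := by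
    rw [AddSubgroup.index_ker, AddMonoidHom.range_eq_top.2]
    · simp [Nat.card_zmod]
    · intro x
      obtain ⟨x, rfl⟩ := ZMod.intCast_surjective x
      exact ⟨Pi.single v0 x, by simp [ev]⟩
  have hZ : Z.map Aπ = M.mulVecLin.toAddMonoidHom.range := by
    ext y
    simp only [AddSubgroup.mem_map, AddMonoidHom.mem_range]
    constructor
    · rintro ⟨z, hz, rfl⟩
      exact ⟨fun j => z j.1, (hext z hz).symm⟩
    · rintro ⟨x, rfl⟩
      refine ⟨fun v => if h : v = v0 then 0 else x ⟨v, h⟩, by simp [Z], ?_⟩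
      refine (hext _ (by simp)).trans (congrArg (M *ᵥ ·) ?_)
      funext j
      exact dif_neg j.2
  have hidx4 : M.mulVecLin.toAddMonoidHom.range.index = M.det.natAbs := by
    have hMi : Function.Injective M.mulVecLin := by
      rw [← LinearMap.ker_eq_bot, LinearMap.ker_eq_bot']
      intro x hx
      by_contra h
      exact hdet (Matrix.exists_mulVec_eq_zero_iff.1 ⟨x, h, hx⟩)
    have h := Submodule.natAbs_det_equiv (LinearMap.range M.mulVecLin) (LinearEquiv.ofInjective _ hMi)
    rw [show AddMonoidHom.range M.mulVecLin.toAddMonoidHom = (LinearMap.range M.mulVecLin).toAddSubgroup from rfl]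
    refine h.symm.trans ?_
    congr 1
    rw [← LinearMap.det_toLin' M]
    rfl
  rw [← hidx4, ← hZ, AddSubgroup.index_map, hsup, hidx3, hidx2]
  ring

end Groth.Agent.MatTree
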