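import Groth.Prelude.Def_W4c2conddiscmodels
import Mathlib.Algebra.Ring.Parity
import Mathlib.Data.ZMod.Basic

/-!
# Edge sets of finite multigraphs: connectivity, circuits, spanning trees
-/

namespace Groth.Agent.MatTree

open Finset LabGraph

set_option linter.unusedSectionVars false

universe u

variable {V E : Type u} [Fintype V] [Fintype E] [DecidableEq V] [DecidableEq E]
  {ends : E → V × V}

/-- Adjacency through an edge in `S`. -/
def AdjS (ends : E → V × V) (S : Finset E) (a b : V) : Prop :=
  ∃ e ∈ S, ends e = (a, b) ∨ ends e = (b, a)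

/-- Joined by a chain of edges in `S`. -/
abbrev Reach (ends : E → V × V) (S : Finset E) : V → V → Prop :=
  Relation.ReflTransGen (AdjS ends S)

/-- The edge set connects all the vertices. -/
def Spans (ends : E → V × V) (S : Finset E) : Prop := ∀ a b, Reach ends S a b

/-- No circuit inside `S`. -/
def NoCirc (ends : E → V × V) (S : Finset E) : Prop := ∀ C ⊆ S, ¬ IsCircuit ends C

theorem adjS_symm {S : Finset E} {a b : V} (h : AdjS ends S a b) : AdjS ends S b a :=
  let ⟨e, he, h⟩ := h; ⟨e, he, h.symm⟩

theorem reach_symm {S : Finset E} {a b : V} (h : Reach ends S a b) : Reach ends S b a := by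
  induction h with
  | refl => exact Relation.ReflTransGen.refl
  | tail _ hs ih => exact Relation.ReflTransGen.head (adjS_symm hs) ih

theorem adjS_ends {S : Finset E} {e : E} (he : e ∈ S) : AdjS ends S (ends e).1 (ends e).2 :=
  ⟨e, he, Or.inl rfl⟩

theorem connected_restrict {S : Finset E} :
    Connected (fun e : S => ends e.1) ↔ Nonempty V ∧ Spans ends S := by
  have : Adj (fun e : S => ends e.1) = AdjS ends S := by
    funext a b; simp only [Adj, AdjS, Subtype.exists, exists_prop]
  simp only [Connected, Spans, Reach, this]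

theorem endCount_map {S : Finset E} (C : Finset S) (v : V) :
    endCount (fun e : S => ends e.1) C v = endCount ends (C.map (Function.Embedding.subtype _)) v := by
  rw [endCount, endCount, Finset.sum_map]
  exact Finset.sum_congr rfl fun x _ => rfl

theorem noCirc_restrict {S : Finset E} :
    DualGr.IsForest (fun e : S => ends e.1) ↔ NoCirc ends S := by
  have key : ∀ C ⊆ S, (C.subtype (· ∈ S)).map (Function.Embedding.subtype _) = C := fun C hC => by
    rw [Finset.subtype_map]; exact filter_true_of_mem fun x hx => hC hx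
  constructor
  · intro h C hCS ⟨hne, heven, hmin⟩
    refine h (C.subtype (· ∈ S)) ⟨?_, fun v => ?_, fun C' hC' hne' => ?_⟩
    · obtain ⟨e, he⟩ := hne
      exact ⟨⟨e, hCS he⟩, by simpa using he⟩
    · rw [endCount_map, key C hCS]; exact heven v
    · simp only [endCount_map]
      refine hmin _ ?_ hne'.map
      rw [← key C hCS]
      exact Finset.map_ssubset_map.2 hC'
  · intro h C ⟨hne, heven, hmin⟩
    refine h (C.map (Function.Embedding.subtype _)) (fun e he => ?_) ⟨hne.map, fun v => ?_, fun C' hC' hne' => ?_⟩
    · obtain ⟨x, -, rfl⟩ := mem_map.1 he; exact x.2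
    · rw [← endCount_map]; exact heven v
    · have hsub : C' ⊆ S := fun e he => by
        obtain ⟨x, -, rfl⟩ := mem_map.1 (hC'.1 he); exact x.2
      rw [← key C' hsub] at hC' ⊢
      simp only [← endCount_map]
      refine hmin _ (Finset.map_ssubset_map.1 hC') ?_
      obtain ⟨e, he⟩ := hne'
      exact ⟨⟨e, hsub he⟩, by simpa using he⟩

theorem isSpanningTree_iff {T : Finset E} :
    IsSpanningTree ends T ↔ Nonempty V ∧ Spans ends T ∧ NoCirc ends T := by
  rw [IsSpanningTree, DualGr.IsTree, connected_restrict, noCirc_restrict, and_assoc]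

theorem spans_univ (hG : Connected ends) : Spans ends univ := fun a b => by
  induction hG.2 a b with
  | refl => exact Relation.ReflTransGen.refl
  | tail _ hs ih => obtain ⟨e, he⟩ := hs; exact ih.tail ⟨e, mem_univ e, he⟩

theorem exists_circuit {S : Finset E} (hne : S.Nonempty) (hS : ∀ v, Even (endCount ends S v)) :
    ∃ C ⊆ S, IsCircuit ends C := by
  induction S using Finset.strongInduction with
  | H S ih =>
    by_cases h : ∀ C' : Finset E, C' ⊂ S → C'.Nonempty → ∃ v, ¬ Even (endCount ends C' v)
    · exact ⟨S, subset_rfl, hne, hS, h⟩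
    · push Not at h
      obtain ⟨C', h1, h2, h3⟩ := h
      obtain ⟨C, h4, h5⟩ := ih C' h1 h2 h3
      exact ⟨C, h4.trans h1.1, h5⟩

theorem endCount_singleton (e : E) (v : V) :
    endCount ends {e} v = (if (ends e).1 = v then 1 else 0) + (if (ends e).2 = v then 1 else 0) := by
  simp [endCount]

theorem endCount_eq_sum (C : Finset E) (v : V) :
    endCount ends C v = ∑ e ∈ C, endCount ends {e} v := by
  simp only [endCount_singleton]; rfl

theorem endCount_pos {C : Finset E} {e : E} (he : e ∈ C) {v : V}
    (hv : (ends e).1 = v ∨ (ends e).2 = v) : endCount ends C v ≠ 0 := by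
  intro h
  have := Finset.sum_eq_zero_iff.1 h e he
  rcases hv with hv | hv <;> simp [hv] at this

theorem sum_endCount (R : Finset V) (e : E) :
    ∑ v ∈ R, endCount ends {e} v =
      (if (ends e).1 ∈ R then 1 else 0) + (if (ends e).2 ∈ R then 1 else 0) := by
  simp [endCount_singleton, sum_add_distrib]

/-- An edge of an even set is not needed for connectivity. -/
theorem spans_erase {S C : Finset E} (hS : Spans ends S) (hCS : C ⊆ S)
    (hC : ∀ v, Even (endCount ends C v)) {e : E} (he : e ∈ C) : Spans ends (S.erase e) := by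
  classical
  let R : Finset V := univ.filter fun v => Reach ends (S.erase e) (ends e).1 v
  have hR : ∀ d ∈ S.erase e, ((ends d).1 ∈ R ↔ (ends d).2 ∈ R) := fun d hd => by
    simp only [R, mem_filter, mem_univ, true_and]
    exact ⟨fun h => h.tail (adjS_ends hd), fun h => h.tail (adjS_symm (adjS_ends hd))⟩
  have h2 : (ends e).2 ∈ R := by
    by_contra h2
    have h1 : (ends e).1 ∈ R := by simp [R, Relation.ReflTransGen.refl]
    have hev : Even (∑ d ∈ C, ∑ v ∈ R, endCount ends {d} v) := by
      rw [Finset.sum_comm]
      simp only [← endCount_eq_sum]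
      exact Finset.even_sum _ fun v _ => hC v
    rw [← Finset.add_sum_erase _ _ he, sum_endCount, if_pos h1, if_neg h2, add_zero] at hev
    have hev' : Even (∑ d ∈ C.erase e, ∑ v ∈ R, endCount ends {d} v) := by
      refine Finset.even_sum _ fun d hd => ?_
      rw [sum_endCount]
      have := hR d (Finset.erase_subset_erase _ hCS hd)
      by_cases h : (ends d).1 ∈ R
      · rw [if_pos h, if_pos (this.1 h)]; exact ⟨1, rfl⟩
      · rw [if_neg h, if_neg (fun h' => h (this.2 h'))]; exact ⟨0, rfl⟩
    rcases hev with ⟨a, ha⟩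
    rcases hev' with ⟨b, hb⟩
    omega
  have h2' : Reach ends (S.erase e) (ends e).1 (ends e).2 := (mem_filter.1 h2).2
  intro a b
  induction hS a b with
  | refl => exact Relation.ReflTransGen.refl
  | tail _ hstep ih =>
    refine ih.trans ?_
    obtain ⟨d, hd, hd'⟩ := hstep
    by_cases hde : d = e
    · subst hde
      rcases hd' with hd' | hd'
      · rw [hd'] at h2'; exact h2'
      · rw [hd'] at h2'; exact reach_symm h2'
    · exact Relation.ReflTransGen.single ⟨d, mem_erase.2 ⟨hde, hd⟩, hd'⟩

theorem exists_tree [Nonempty V] {S : Finset E} (hS : Spans ends S) :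
    ∃ T ⊆ S, IsSpanningTree ends T := by
  classical
  induction S using Finset.strongInduction with
  | H S ih =>
    by_cases h : NoCirc ends S
    · exact ⟨S, subset_rfl, isSpanningTree_iff.2 ⟨‹_›, hS, h⟩⟩
    · simp only [NoCirc, not_forall, not_not] at h
      obtain ⟨C, hCS, hC⟩ := h
      obtain ⟨e, he⟩ := hC.1
      obtain ⟨T, hT, hT'⟩ := ih _ (erase_ssubset (hCS he)) (spans_erase hS hCS hC.2.1 he)
      exact ⟨T, hT.trans (erase_subset _ _), hT'⟩

theorem zmod_two_sum_symmDiff (f : E → ZMod 2) (A B : Finset E) :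
    ∑ x ∈ (A \ B) ∪ (B \ A), f x = ∑ x ∈ A, f x + ∑ x ∈ B, f x := by
  rw [Finset.sum_union disjoint_sdiff_sdiff, ← Finset.sum_inter_add_sum_sdiff A B f,
    ← Finset.sum_inter_add_sum_sdiff B A f, Finset.inter_comm B A]
  have : ∀ x : ZMod 2, x + x = 0 := by decide
  linear_combination -(this (∑ x ∈ A ∩ B, f x))

/-- A chain of edges gives an edge set with boundary its two endpoints modulo 2. -/
theorem exists_parity {S : Finset E} {a b : V} (h : Reach ends S a b) :
    ∃ P ⊆ S, ∀ v, (endCount ends P v : ZMod 2) =
      (if a = v then 1 else 0) + (if b = v then 1 else 0) := by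
  have two : ∀ x : ZMod 2, x + x = 0 := by decide
  induction h with
  | refl => exact ⟨∅, empty_subset _, fun v => by simp [endCount, two]⟩
  | @tail c d _ hstep ih =>
    obtain ⟨P, hP, hP'⟩ := ih
    obtain ⟨e, he, he'⟩ := hstep
    refine ⟨(P \ {e}) ∪ ({e} \ P), union_subset (sdiff_subset.trans hP)
      (sdiff_subset.trans (singleton_subset_iff.2 he)), fun v => ?_⟩
    have hsum : ∀ C : Finset E, (endCount ends C v : ZMod 2) = ∑ x ∈ C, (endCount ends {x} v : ZMod 2) :=
      fun C => by rw [endCount_eq_sum]; push_cast; rfl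
    rw [hsum, zmod_two_sum_symmDiff, ← hsum, ← hsum, hP']
    rcases he' with he' | he' <;>
    · rw [endCount_singleton, he']
      push_cast
      linear_combination two (if c = v then (1 : ZMod 2) else 0)

theorem exists_circuit_insert {T : Finset E} (hT : IsSpanningTree ends T) {e : E} (he : e ∉ T) :
    ∃ C, IsCircuit ends C ∧ e ∈ C := by
  obtain ⟨-, hspan, hno⟩ := isSpanningTree_iff.1 hT
  obtain ⟨P, hP, hP'⟩ := exists_parity (hspan (ends e).1 (ends e).2)
  have heP : e ∉ P := fun h => he (hP h)
  obtain ⟨C, hC, hC'⟩ := exists_circuit (ends := ends) (S := insert e P) (insert_nonempty _ _) (fun v => by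
    have h2 : ∀ x : ZMod 2, x + x = 0 := by decide
    rw [← ZMod.natCast_eq_zero_iff_even, endCount_eq_sum, sum_insert heP, ← endCount_eq_sum]
    push_cast
    rw [hP', endCount_singleton]
    push_cast
    exact h2 _)
  refine ⟨C, hC', ?_⟩
  by_contra h
  exact hno C (((subset_insert_iff_of_notMem h).1 hC).trans hP) hC'

theorem endCount_eq_nbrCount {T : Finset E} (hT : IsSpanningTree ends T) (v : V) :
    endCount ends T v = nbrCount ends T v := by
  obtain ⟨-, -, hno⟩ := isSpanningTree_iff.1 hT
  have hloop : ∀ e ∈ T, (ends e).1 ≠ (ends e).2 := fun e he h => by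
    obtain ⟨C, hC, hC'⟩ := exists_circuit (ends := ends) (S := {e}) (singleton_nonempty e) (fun w => by
      rw [endCount_singleton, h]; exact ⟨_, rfl⟩)
    exact hno C (hC.trans (singleton_subset_iff.2 he)) hC'
  have hpar : ∀ d ∈ T, ∀ d' ∈ T, ∀ w, (ends d = (v, w) ∨ ends d = (w, v)) →
      (ends d' = (v, w) ∨ ends d' = (w, v)) → d = d' := fun d hd d' hd' w h h' => by
    by_contra hne
    obtain ⟨C, hC, hC'⟩ := exists_circuit (ends := ends) (S := {d, d'}) (insert_nonempty _ _) (fun x => by
      rw [endCount_eq_sum, sum_pair hne, endCount_singleton, endCount_singleton]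
      rcases h with h | h <;> rcases h' with h' | h' <;> rw [h, h'] <;>
        exact ⟨(if v = x then 1 else 0) + (if w = x then 1 else 0), by ring⟩)
    exact hno C (hC.trans (by simp [insert_subset_iff, hd, hd'])) hC'
  have key : ∀ e ∈ T, endCount ends {e} v = if (ends e).1 = v ∨ (ends e).2 = v then 1 else 0 := by
    intro e he
    rw [endCount_singleton]
    have := hloop e he
    by_cases h1 : (ends e).1 = v <;> by_cases h2 : (ends e).2 = v <;> simp [h1, h2]
    exact this (h1.trans h2.symm)
  rw [endCount_eq_sum, sum_congr rfl key, Finset.sum_boole, Nat.cast_id]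
  let other : E → V := fun e => if (ends e).1 = v then (ends e).2 else (ends e).1
  refine Finset.card_bij (fun e _ => other e) (fun e he => ?_) (fun d hd d' hd' h => ?_) (fun w hw => ?_)
  · simp only [mem_filter, mem_univ, true_and] at he ⊢
    have := hloop e he.1
    by_cases h1 : (ends e).1 = v
    · simp only [other, if_pos h1]
      exact ⟨fun h => this (h1.trans h.symm), e, he.1, Or.inl (Prod.ext h1 rfl)⟩
    · simp only [other, if_neg h1]
      exact ⟨h1, e, he.1, Or.inr (Prod.ext rfl (he.2.resolve_left h1))⟩
  · simp only [mem_filter] at hd hd'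
    have aux : ∀ e, ((ends e).1 = v ∨ (ends e).2 = v) → ends e = (v, other e) ∨ ends e = (other e, v) := by
      intro e he
      by_cases h1 : (ends e).1 = v
      · exact Or.inl (Prod.ext h1 (by simp [other, h1]))
      · exact Or.inr (Prod.ext (by simp [other, h1]) (he.resolve_left h1))
    refine hpar d hd.1 d' hd'.1 (other d) (aux d hd.2) ?_
    rw [h]; exact aux d' hd'.2
  · simp only [mem_filter, mem_univ, true_and] at hw
    obtain ⟨hne, e, he, h⟩ := hw
    refine ⟨e, mem_filter.2 ⟨he, ?_⟩, ?_⟩
    · rcases h with h | h <;> simp [h]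
    · rcases h with h | h <;> simp [other, h, hne]

end Groth.Agent.MatTree
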